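import Cfsg.Agent.PLocalBasics.PLength
import Mathlib.GroupTheory.Solvable

/-!
The bound of the derived length of a soluble group by the derived lengths of its Sylow subgroups and its `p`-lengths.
-/

set_option autoImplicit false
set_option linter.style.haveILetI false

namespace CfsgLib.DerivedBound

open CfsgLib.PCore CfsgLib.PLocalBasics

universe u

theorem upperPSeries_le_comap {p : ℕ} {G H : Type u} [Group G] [Finite G] [Group H] [Finite H] (f : G →* H)
    (hf : Function.Surjective f) (n : ℕ) :
    (Cfsg.upperPSeries p G n).1 ≤ (Cfsg.upperPSeries p H n).1.comap f := by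
  induction n with
  | zero =>
    intro x hx
    rw [show x = 1 from (Subgroup.mem_bot.1 (show x ∈ (⊥ : Subgroup G) from hx))]
    exact one_mem _
  | succ n ih =>
    set M := (Cfsg.upperPSeries p G n).1
    set N := (Cfsg.upperPSeries p H n).1
    let φ : G ⧸ M →* H ⧸ N := QuotientGroup.map M N f ih
    have hφ : Function.Surjective φ := fun y => by
      obtain ⟨h, rfl⟩ := QuotientGroup.mk'_surjective N y
      obtain ⟨g, rfl⟩ := hf h
      exact ⟨QuotientGroup.mk' M g, rfl⟩
    intro x hx
    by_cases hn : Even n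
    · rw [upperPSeries_succ_even hn] at hx
      rw [upperPSeries_succ_even hn]
      exact map_pPrimeCore_le φ hφ ⟨_, hx, rfl⟩
    · rw [upperPSeries_succ_odd hn] at hx
      rw [upperPSeries_succ_odd hn]
      exact map_pCore_le φ hφ ⟨_, hx, rfl⟩

theorem pLengthLE_quotient {p k : ℕ} {G : Type u} [Group G] [Finite G] (h : Cfsg.PLengthLE p k G)
    (N : Subgroup G) [N.Normal] : Cfsg.PLengthLE p k (G ⧸ N) := by
  refine eq_top_iff.2 fun y _ => ?_
  obtain ⟨g, rfl⟩ := QuotientGroup.mk'_surjective N y
  exact upperPSeries_le_comap _ (QuotientGroup.mk'_surjective N) _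
    (show g ∈ (Cfsg.upperPSeries p G (2 * k + 1)).1 by rw [show (Cfsg.upperPSeries p G (2 * k + 1)).1 = ⊤ from h]; trivial)

theorem derivedSeries_quotient_sylow {p : ℕ} [Fact p.Prime] {G : Type u} [Group G] [Finite G] (N : Subgroup G)
    [N.Normal] {d : ℕ} (h : ∀ S : Sylow p G, derivedSeries ↥(S : Subgroup G) d = ⊥) (T : Sylow p (G ⧸ N)) :
    derivedSeries ↥(T : Subgroup (G ⧸ N)) d = ⊥ := by
  obtain ⟨S⟩ : Nonempty (Sylow p G) := inferInstance
  let T' := S.mapSurjective (QuotientGroup.mk'_surjective N)
  let f := ((T'.equiv T).toMonoidHom).comp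
    (((QuotientGroup.mk' N).comp (S : Subgroup G).subtype).codRestrict (T' : Subgroup (G ⧸ N)) fun s => by
      rw [Sylow.coe_mapSurjective]; exact ⟨s, s.2, rfl⟩)
  have hf : Function.Surjective f := by
    refine (MulEquiv.surjective _).comp ?_
    rintro ⟨y, hy⟩
    rw [Sylow.coe_mapSurjective] at hy
    obtain ⟨s, hs, rfl⟩ := hy
    exact ⟨⟨s, hs⟩, Subtype.ext rfl⟩
  rw [← map_derivedSeries_eq hf, h S, Subgroup.map_bot]

theorem derivedSeries_add_le {G : Type u} [Group G] {P : Subgroup G} {k : ℕ} (h : derivedSeries G k ≤ P) (d : ℕ) :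
    derivedSeries G (k + d) ≤ (derivedSeries P d).map P.subtype := by
  induction d with
  | zero => simpa [← MonoidHom.range_eq_map] using h
  | succ d ih =>
    rw [show k + (d + 1) = k + d + 1 from rfl, derivedSeries_succ, derivedSeries_succ, Subgroup.map_commutator]
    exact Subgroup.commutator_mono ih ih

theorem derivedSeries_le_comap {G : Type u} [Group G] (N : Subgroup G) [N.Normal] {k : ℕ}
    (h : derivedSeries (G ⧸ N) k = ⊥) : derivedSeries G k ≤ N := by
  have h1 := map_derivedSeries_eq (f := QuotientGroup.mk' N) (QuotientGroup.mk'_surjective N) k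
  rw [h, Subgroup.map_eq_bot_iff, QuotientGroup.ker_mk'] at h1
  exact h1

theorem main {r : ℕ} (q : Fin r → ℕ) (hq : ∀ i, (q i).Prime) (hinj : Function.Injective q) (d : Fin r → ℕ) :
    ∀ (n : ℕ) (G : Type u) [Group G] [Finite G], Nat.card G ≤ n → Group.IsSolvable G →
      (∀ s : ℕ, s.Prime → s ∣ Nat.card G → ∃ i, q i = s) → ∀ l : Fin r → ℕ,
      (∀ i, haveI := Fact.mk (hq i); ∀ S : Sylow (q i) G, derivedSeries ↥(S : Subgroup G) (d i) = ⊥) →
      (∀ i, Cfsg.PLengthLE (q i) (l i) G) → derivedSeries G (Finset.univ.sum fun i => d i * l i) = ⊥ := by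
  intro n
  induction n with
  | zero => intro G _ _ h; exact absurd h (by have := Nat.card_pos (α := G); omega)
  | succ n ih =>
    intro G _ _ hcard hsol hcover l hd hl
    rcases subsingleton_or_nontrivial G with hG | hG
    · exact Subsingleton.elim _ _
    have key : ∀ (N : Subgroup G) [N.Normal], N ≠ ⊥ → ∀ l' : Fin r → ℕ,
        (∀ i, Cfsg.PLengthLE (q i) (l' i) (G ⧸ N)) →
        derivedSeries G (Finset.univ.sum fun i => d i * l' i) ≤ N := by
      intro N _ hN l' hl'
      have hlt : Nat.card (G ⧸ N) < Nat.card G := by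
        have h1 := Subgroup.card_eq_card_quotient_mul_card_subgroup N
        have h2 : 1 < Nat.card N := (Subgroup.one_lt_card_iff_ne_bot N).2 hN
        have h3 : 0 < Nat.card (G ⧸ N) := Nat.card_pos
        nlinarith
      have : Group.IsSolvable (G ⧸ N) := Group.isSolvable_of_surjective (f := QuotientGroup.mk' N)
        (QuotientGroup.mk'_surjective N)
      refine derivedSeries_le_comap N (ih (G ⧸ N) (by omega) this
        (fun s hs hsd => hcover s hs (hsd.trans (Subgroup.card_quotient_dvd_card N))) l' (fun i => ?_) hl')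
      haveI := Fact.mk (hq i)
      exact derivedSeries_quotient_sylow N (hd i)
    by_cases hcase : ∀ i, Cfsg.pPrimeCore (q i) G ≠ ⊥
    · rw [eq_bot_iff]
      intro x hx
      by_contra hx1
      obtain ⟨s, hs, hsd⟩ := Nat.exists_prime_and_dvd (n := orderOf x) (fun h => hx1 (Subgroup.mem_bot.2 (orderOf_eq_one_iff.1 h)))
      obtain ⟨i, rfl⟩ := hcover s hs (hsd.trans (orderOf_dvd_natCard x))
      haveI := Fact.mk (hq i)
      haveI := (pPrimeCore_mem (q i) G).1
      have hxi := key _ (hcase i) l (fun j => pLengthLE_quotient (hl j) _) hx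
      exact not_dvd_card_pPrimeCore (q i) G (hsd.trans ((Subgroup.orderOf_mk x hxi) ▸ orderOf_dvd_natCard (⟨x, hxi⟩ : Cfsg.pPrimeCore (q i) G)))
    · push Not at hcase
      obtain ⟨i, hi⟩ := hcase
      haveI := Fact.mk (hq i)
      set P := Cfsg.pCore (q i) G with hP
      haveI : P.Normal := Cfsg.pCore_normal (q i) G
      have hC := hall_higman (isPSolvable_of_isSolvable (p := q i) (G := G)) hi
      have hPne : P ≠ ⊥ := by
        intro h0
        rw [← hP, h0, Subgroup.coe_bot, Subgroup.centralizer_eq_top_iff_subset.2 (by simp)] at hC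
        exact bot_ne_top (eq_bot_iff.2 hC ▸ rfl : (⊥ : Subgroup G) = ⊤)
      have hU1 : (Cfsg.upperPSeries (q i) G 1).1 = ⊥ := by rw [upperPSeries_one, hi]
      obtain ⟨m, hm⟩ : ∃ m, l i = m + 1 := by
        rcases Nat.eq_zero_or_eq_succ_pred (l i) with h0 | h0
        · have h1 := hl i
          rw [h0, Cfsg.PLengthLE, mul_zero, zero_add, hU1] at h1
          exact absurd h1 bot_ne_top
        · exact ⟨_, h0⟩
      have hU2 : (Cfsg.upperPSeries (q i) G 2).1 = P := by
        have h2 := upperPSeries_succ_odd (p := q i) (G := G) (n := 1) (by simp)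
        rw [h2]
        refine le_antisymm (le_pCore inferInstance ?_) fun x hx => map_pCore_le _ (QuotientGroup.mk'_surjective _) ⟨x, hx, rfl⟩
        exact (isPGroup_pCore (q i) _).comap_of_injective _ ((MonoidHom.ker_eq_bot_iff _).1 (by rw [QuotientGroup.ker_mk', hU1]))
      have hlP : ∀ j, Cfsg.PLengthLE (q j) (Function.update l i m j) (G ⧸ P) := by
        intro j
        rcases eq_or_ne j i with rfl | hne
        · rw [Function.update_self]
          have h1 := hl j
          rw [hm, Cfsg.PLengthLE, show 2 * (m + 1) + 1 = 2 * m + 1 + 2 by ring, upperPSeries_add_two] at h1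
          have h2 : Cfsg.PLengthLE (q j) m (G ⧸ (Cfsg.upperPSeries (q j) G 2).1) :=
            Subgroup.comap_injective (QuotientGroup.mk'_surjective _) (h1.trans (Subgroup.comap_top _).symm)
          have h3 : ∀ (U V : Subgroup G) [U.Normal] [V.Normal], U = V → Cfsg.PLengthLE (q j) m (G ⧸ U) →
              Cfsg.PLengthLE (q j) m (G ⧸ V) := by
            intro U V _ _ e h
            subst e
            exact h
          exact h3 _ _ hU2 h2
        · rw [Function.update_of_ne hne]; exact pLengthLE_quotient (hl j) P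
      have hk := key P hPne (Function.update l i m) hlP
      have hsum : (Finset.univ.sum fun j => d j * Function.update l i m j) + d i = Finset.univ.sum fun j => d j * l j := by
        rw [← Finset.add_sum_erase _ _ (Finset.mem_univ i), ← Finset.add_sum_erase _ (fun j => d j * l j) (Finset.mem_univ i),
          Function.update_self, hm, Nat.mul_succ]
        rw [Finset.sum_congr rfl (fun j hj => by rw [Function.update_of_ne (Finset.ne_of_mem_erase hj)] :
          ∀ j ∈ Finset.univ.erase i, d j * Function.update l i m j = d j * l j)]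
        omega
      rw [← hsum, eq_bot_iff]
      refine (derivedSeries_add_le hk (d i)).trans ?_
      obtain ⟨S⟩ : Nonempty (Sylow (q i) G) := inferInstance
      have hPS := pCore_le_sylow (p := q i) S
      have h1 : (derivedSeries P (d i)).map (Subgroup.inclusion hPS) ≤ derivedSeries ↥(S : Subgroup G) (d i) :=
        map_derivedSeries_le_derivedSeries _ _
      rw [hd i S, le_bot_iff, Subgroup.map_eq_bot_iff_of_injective _ (Subgroup.inclusion_injective hPS)] at h1
      rw [h1, Subgroup.map_bot]

end CfsgLib.DerivedBound
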